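import Cfsg.Agent.H0.VON3.D0
import Cfsg.Agent.H0.VON3.D1
import Cfsg.Agent.H0.VON3.D2
import Cfsg.Agent.H0.VON3.D3
import Cfsg.Agent.H0.VON3.D4
import Cfsg.Agent.H0.VON3.D5
import Cfsg.Agent.H0.VON3.D6
import Cfsg.Agent.H0.VON3.D7
import Cfsg.Agent.H0.Cover
import Cfsg.Agent.H0.MON.D
set_option maxRecDepth 100000
set_option Elab.async false
namespace H0.VON3
open H0 BN 
noncomputable def n0 : Net := (Net.cons (nat_lit 262144) n0m0 (Net.cons (nat_lit 131072) n0m1 (Net.cons (nat_lit 65536) n0m2 (Net.cons (nat_lit 32768) n0m3 (Net.cons (nat_lit 16384) n0m4 (Net.cons (nat_lit 8192) n0m5 (Net.cons (nat_lit 4096) n0m6 (Net.cons (nat_lit 2048) n0m7 (Net.cons (nat_lit 1024) n0m8 (Net.cons (nat_lit 512) n0m9 (Net.cons (nat_lit 256) n0m10 (Net.cons (nat_lit 128) n0m11 (Net.cons (nat_lit 64) n0m12 (Net.cons (nat_lit 32) n0m13 (Net.cons (nat_lit 16) n0m14 (Net.cons (nat_lit 8) n0m15 (Net.cons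 (nat_lit 4) n0m16 (Net.cons (nat_lit 2) n0m17 (Net.cons (nat_lit 1) n0m18 (Net.cons (nat_lit 2) n0m19 (Net.cons (nat_lit 4) n0m20 (Net.cons (nat_lit 8) n0m21 (Net.cons (nat_lit 16) n0m22 (Net.cons (nat_lit 32) n0m23 (Net.cons (nat_lit 64) n0m24 (Net.cons (nat_lit 128) n0m25 (Net.cons (nat_lit 256) n0m26 (Net.cons (nat_lit 512) n0m27 (Net.cons (nat_lit 1024) n0m28 (Net.cons (nat_lit 2048) n0m29 (Net.cons (nat_lit 4096) n0m30 (Net.cons (nat_lit 8192) n0m31 (Net.cons (nat_lit 16384) n0m32 (Net.cons (nat_lit 32768) n0m33 (Net.cons (nat_lit 65536) n0m34 (Net.cons (nat_lit 131072) n0m35 (Net.cons (nat_lit 262144) n0m36 Net.nil)))))))))))))))))))))))))))))))))))))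
noncomputable def n1 : Net := (Net.cons (nat_lit 262144) n1m0 (Net.cons (nat_lit 131072) n1m1 (Net.cons (nat_lit 65536) n1m2 (Net.cons (nat_lit 32768) n1m3 (Net.cons (nat_lit 16384) n1m4 (Net.cons (nat_lit 8192) n1m5 (Net.cons (nat_lit 4096) n1m6 (Net.cons (nat_lit 2048) n1m7 (Net.cons (nat_lit 1024) n1m8 (Net.cons (nat_lit 512) n1m9 (Net.cons (nat_lit 256) n1m10 (Net.cons (nat_lit 128) n1m11 (Net.cons (nat_lit 64) n1m12 (Net.cons (nat_lit 32) n1m13 (Net.cons (nat_lit 16) n1m14 (Net.cons (nat_lit 8) n1m15 (Net.cons (nat_lit 4) n1m16 (Net.cons (nat_lit 2) n1m17 (Net.cons (nat_lit 1) n1m18 (Net.cons (nat_lit 2) n1m19 (Net.cons (nat_lit 4) n1m20 (Net.cons (nat_lit 8) n1m21 (Net.cons (nat_lit 16) n1m22 (Net.cons (nat_lit 32) n1m23 (Net.cons (nat_lit 64) n1m24 (Net.cons (nat_lit 128) n1m25 (Net.cons (nat_lit 256) n1m26 (Net.cons (nat_lit 512) n1m27 (Net.cons (nat_lit 1024) n1m28 (Net.cons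 (nat_lit 2048) n1m29 (Net.cons (nat_lit 4096) n1m30 (Net.cons (nat_lit 8192) n1m31 (Net.cons (nat_lit 16384) n1m32 (Net.cons (nat_lit 32768) n1m33 (Net.cons (nat_lit 65536) n1m34 (Net.cons (nat_lit 131072) n1m35 (Net.cons (nat_lit 262144) n1m36 Net.nil)))))))))))))))))))))))))))))))))))))
noncomputable def n2 : Net := (Net.cons (nat_lit 262144) n2m0 (Net.cons (nat_lit 131072) n2m1 (Net.cons (nat_lit 65536) n2m2 (Net.cons (nat_lit 32768) n2m3 (Net.cons (nat_lit 16384) n2m4 (Net.cons (nat_lit 8192) n2m5 (Net.cons (nat_lit 4096) n2m6 (Net.cons (nat_lit 2048) n2m7 (Net.cons (nat_lit 1024) n2m8 (Net.cons (nat_lit 512) n2m9 (Net.cons (nat_lit 256) n2m10 (Net.cons (nat_lit 128) n2m11 (Net.cons (nat_lit 64) n2m12 (Net.cons (nat_lit 32) n2m13 (Net.cons (nat_lit 16) n2m14 (Net.cons (nat_lit 8) n2m15 (Net.cons (nat_lit 4) n2m16 (Net.cons (nat_lit 2) n2m17 (Net.cons (nat_lit 1) n2m18 (Net.cons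 (nat_lit 2) n2m19 (Net.cons (nat_lit 4) n2m20 (Net.cons (nat_lit 8) n2m21 (Net.cons (nat_lit 16) n2m22 (Net.cons (nat_lit 32) n2m23 (Net.cons (nat_lit 64) n2m24 (Net.cons (nat_lit 128) n2m25 (Net.cons (nat_lit 256) n2m26 (Net.cons (nat_lit 512) n2m27 (Net.cons (nat_lit 1024) n2m28 (Net.cons (nat_lit 2048) n2m29 (Net.cons (nat_lit 4096) n2m30 (Net.cons (nat_lit 8192) n2m31 (Net.cons (nat_lit 16384) n2m32 (Net.cons (nat_lit 32768) n2m33 (Net.cons (nat_lit 65536) n2m34 (Net.cons (nat_lit 131072) n2m35 (Net.cons (nat_lit 262144) n2m36 Net.nil)))))))))))))))))))))))))))))))))))))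
noncomputable def n3 : Net := (Net.cons (nat_lit 262144) n3m0 (Net.cons (nat_lit 131072) n3m1 (Net.cons (nat_lit 65536) n3m2 (Net.cons (nat_lit 32768) n3m3 (Net.cons (nat_lit 16384) n3m4 (Net.cons (nat_lit 8192) n3m5 (Net.cons (nat_lit 4096) n3m6 (Net.cons (nat_lit 2048) n3m7 (Net.cons (nat_lit 1024) n3m8 (Net.cons (nat_lit 512) n3m9 (Net.cons (nat_lit 256) n3m10 (Net.cons (nat_lit 128) n3m11 (Net.cons (nat_lit 64) n3m12 (Net.cons (nat_lit 32) n3m13 (Net.cons (nat_lit 16) n3m14 (Net.cons (nat_lit 8) n3m15 (Net.cons (nat_lit 4) n3m16 (Net.cons (nat_lit 2) n3m17 (Net.cons (nat_lit 1) n3m18 (Net.cons (nat_lit 2) n3m19 (Net.cons (nat_lit 4) n3m20 (Net.cons (nat_lit 8) n3m21 (Net.cons (nat_lit 16) n3m22 (Net.cons (nat_lit 32) n3m23 (Net.cons (nat_lit 64) n3m24 (Net.cons (nat_lit 128) n3m25 (Net.cons (nat_lit 256) n3m26 (Net.cons (nat_lit 512) n3m27 (Net.cons (nat_lit 1024) n3m28 (Net.cons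 (nat_lit 2048) n3m29 (Net.cons (nat_lit 4096) n3m30 (Net.cons (nat_lit 8192) n3m31 (Net.cons (nat_lit 16384) n3m32 (Net.cons (nat_lit 32768) n3m33 (Net.cons (nat_lit 65536) n3m34 (Net.cons (nat_lit 131072) n3m35 (Net.cons (nat_lit 262144) n3m36 Net.nil)))))))))))))))))))))))))))))))))))))
noncomputable def n4 : Net := (Net.cons (nat_lit 262144) n4m0 (Net.cons (nat_lit 131072) n4m1 (Net.cons (nat_lit 65536) n4m2 (Net.cons (nat_lit 32768) n4m3 (Net.cons (nat_lit 16384) n4m4 (Net.cons (nat_lit 8192) n4m5 (Net.cons (nat_lit 4096) n4m6 (Net.cons (nat_lit 2048) n4m7 (Net.cons (nat_lit 1024) n4m8 (Net.cons (nat_lit 512) n4m9 (Net.cons (nat_lit 256) n4m10 (Net.cons (nat_lit 128) n4m11 (Net.cons (nat_lit 64) n4m12 (Net.cons (nat_lit 32) n4m13 (Net.cons (nat_lit 16) n4m14 (Net.cons (nat_lit 8) n4m15 (Net.cons (nat_lit 4) n4m16 (Net.cons (nat_lit 2) n4m17 (Net.cons (nat_lit 1) n4m18 (Net.cons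 (nat_lit 2) n4m19 (Net.cons (nat_lit 4) n4m20 (Net.cons (nat_lit 8) n4m21 (Net.cons (nat_lit 16) n4m22 (Net.cons (nat_lit 32) n4m23 (Net.cons (nat_lit 64) n4m24 (Net.cons (nat_lit 128) n4m25 (Net.cons (nat_lit 256) n4m26 (Net.cons (nat_lit 512) n4m27 (Net.cons (nat_lit 1024) n4m28 (Net.cons (nat_lit 2048) n4m29 (Net.cons (nat_lit 4096) n4m30 (Net.cons (nat_lit 8192) n4m31 (Net.cons (nat_lit 16384) n4m32 (Net.cons (nat_lit 32768) n4m33 (Net.cons (nat_lit 65536) n4m34 (Net.cons (nat_lit 131072) n4m35 (Net.cons (nat_lit 262144) n4m36 Net.nil)))))))))))))))))))))))))))))))))))))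
noncomputable def n5 : Net := (Net.cons (nat_lit 262144) n5m0 (Net.cons (nat_lit 131072) n5m1 (Net.cons (nat_lit 65536) n5m2 (Net.cons (nat_lit 32768) n5m3 (Net.cons (nat_lit 16384) n5m4 (Net.cons (nat_lit 8192) n5m5 (Net.cons (nat_lit 4096) n5m6 (Net.cons (nat_lit 2048) n5m7 (Net.cons (nat_lit 1024) n5m8 (Net.cons (nat_lit 512) n5m9 (Net.cons (nat_lit 256) n5m10 (Net.cons (nat_lit 128) n5m11 (Net.cons (nat_lit 64) n5m12 (Net.cons (nat_lit 32) n5m13 (Net.cons (nat_lit 16) n5m14 (Net.cons (nat_lit 8) n5m15 (Net.cons (nat_lit 4) n5m16 (Net.cons (nat_lit 2) n5m17 (Net.cons (nat_lit 1) n5m18 (Net.cons (nat_lit 2) n5m19 (Net.cons (nat_lit 4) n5m20 (Net.cons (nat_lit 8) n5m21 (Net.cons (nat_lit 16) n5m22 (Net.cons (nat_lit 32) n5m23 (Net.cons (nat_lit 64) n5m24 (Net.cons (nat_lit 128) n5m25 (Net.cons (nat_lit 256) n5m26 (Net.cons (nat_lit 512) n5m27 (Net.cons (nat_lit 1024) n5m28 (Net.cons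 (nat_lit 2048) n5m29 (Net.cons (nat_lit 4096) n5m30 (Net.cons (nat_lit 8192) n5m31 (Net.cons (nat_lit 16384) n5m32 (Net.cons (nat_lit 32768) n5m33 (Net.cons (nat_lit 65536) n5m34 (Net.cons (nat_lit 131072) n5m35 (Net.cons (nat_lit 262144) n5m36 Net.nil)))))))))))))))))))))))))))))))))))))
noncomputable def n6 : Net := (Net.cons (nat_lit 262144) n6m0 (Net.cons (nat_lit 131072) n6m1 (Net.cons (nat_lit 65536) n6m2 (Net.cons (nat_lit 32768) n6m3 (Net.cons (nat_lit 16384) n6m4 (Net.cons (nat_lit 8192) n6m5 (Net.cons (nat_lit 4096) n6m6 (Net.cons (nat_lit 2048) n6m7 (Net.cons (nat_lit 1024) n6m8 (Net.cons (nat_lit 512) n6m9 (Net.cons (nat_lit 256) n6m10 (Net.cons (nat_lit 128) n6m11 (Net.cons (nat_lit 64) n6m12 (Net.cons (nat_lit 32) n6m13 (Net.cons (nat_lit 16) n6m14 (Net.cons (nat_lit 8) n6m15 (Net.cons (nat_lit 4) n6m16 (Net.cons (nat_lit 2) n6m17 (Net.cons (nat_lit 1) n6m18 (Net.cons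 (nat_lit 2) n6m19 (Net.cons (nat_lit 4) n6m20 (Net.cons (nat_lit 8) n6m21 (Net.cons (nat_lit 16) n6m22 (Net.cons (nat_lit 32) n6m23 (Net.cons (nat_lit 64) n6m24 (Net.cons (nat_lit 128) n6m25 (Net.cons (nat_lit 256) n6m26 (Net.cons (nat_lit 512) n6m27 (Net.cons (nat_lit 1024) n6m28 (Net.cons (nat_lit 2048) n6m29 (Net.cons (nat_lit 4096) n6m30 (Net.cons (nat_lit 8192) n6m31 (Net.cons (nat_lit 16384) n6m32 (Net.cons (nat_lit 32768) n6m33 (Net.cons (nat_lit 65536) n6m34 (Net.cons (nat_lit 131072) n6m35 (Net.cons (nat_lit 262144) n6m36 Net.nil)))))))))))))))))))))))))))))))))))))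
noncomputable def n7 : Net := (Net.cons (nat_lit 262144) n7m0 (Net.cons (nat_lit 131072) n7m1 (Net.cons (nat_lit 65536) n7m2 (Net.cons (nat_lit 32768) n7m3 (Net.cons (nat_lit 16384) n7m4 (Net.cons (nat_lit 8192) n7m5 (Net.cons (nat_lit 4096) n7m6 (Net.cons (nat_lit 2048) n7m7 (Net.cons (nat_lit 1024) n7m8 (Net.cons (nat_lit 512) n7m9 (Net.cons (nat_lit 256) n7m10 (Net.cons (nat_lit 128) n7m11 (Net.cons (nat_lit 64) n7m12 (Net.cons (nat_lit 32) n7m13 (Net.cons (nat_lit 16) n7m14 (Net.cons (nat_lit 8) n7m15 (Net.cons (nat_lit 4) n7m16 (Net.cons (nat_lit 2) n7m17 (Net.cons (nat_lit 1) n7m18 (Net.cons (nat_lit 2) n7m19 (Net.cons (nat_lit 4) n7m20 (Net.cons (nat_lit 8) n7m21 (Net.cons (nat_lit 16) n7m22 (Net.cons (nat_lit 32) n7m23 (Net.cons (nat_lit 64) n7m24 (Net.cons (nat_lit 128) n7m25 (Net.cons (nat_lit 256) n7m26 (Net.cons (nat_lit 512) n7m27 (Net.cons (nat_lit 1024) n7m28 (Net.cons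 (nat_lit 2048) n7m29 (Net.cons (nat_lit 4096) n7m30 (Net.cons (nat_lit 8192) n7m31 (Net.cons (nat_lit 16384) n7m32 (Net.cons (nat_lit 32768) n7m33 (Net.cons (nat_lit 65536) n7m34 (Net.cons (nat_lit 131072) n7m35 (Net.cons (nat_lit 262144) n7m36 Net.nil)))))))))))))))))))))))))))))))))))))
noncomputable def n8 : Net := (Net.cons (nat_lit 262144) n8m0 (Net.cons (nat_lit 131072) n8m1 (Net.cons (nat_lit 65536) n8m2 (Net.cons (nat_lit 32768) n8m3 (Net.cons (nat_lit 16384) n8m4 (Net.cons (nat_lit 8192) n8m5 (Net.cons (nat_lit 4096) n8m6 (Net.cons (nat_lit 2048) n8m7 (Net.cons (nat_lit 1024) n8m8 (Net.cons (nat_lit 512) n8m9 (Net.cons (nat_lit 256) n8m10 (Net.cons (nat_lit 128) n8m11 (Net.cons (nat_lit 64) n8m12 (Net.cons (nat_lit 32) n8m13 (Net.cons (nat_lit 16) n8m14 (Net.cons (nat_lit 8) n8m15 (Net.cons (nat_lit 4) n8m16 (Net.cons (nat_lit 2) n8m17 (Net.cons (nat_lit 1) n8m18 (Net.cons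 (nat_lit 2) n8m19 (Net.cons (nat_lit 4) n8m20 (Net.cons (nat_lit 8) n8m21 (Net.cons (nat_lit 16) n8m22 (Net.cons (nat_lit 32) n8m23 (Net.cons (nat_lit 64) n8m24 (Net.cons (nat_lit 128) n8m25 (Net.cons (nat_lit 256) n8m26 (Net.cons (nat_lit 512) n8m27 (Net.cons (nat_lit 1024) n8m28 (Net.cons (nat_lit 2048) n8m29 (Net.cons (nat_lit 4096) n8m30 (Net.cons (nat_lit 8192) n8m31 (Net.cons (nat_lit 16384) n8m32 (Net.cons (nat_lit 32768) n8m33 (Net.cons (nat_lit 65536) n8m34 (Net.cons (nat_lit 131072) n8m35 (Net.cons (nat_lit 262144) n8m36 Net.nil)))))))))))))))))))))))))))))))))))))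
noncomputable def nl : List Net := [n0, n1, n2, n3, n4, n5, n6, n7, n8]
theorem nl_ok : allL (Net.ok (nat_lit 524288)) nl = true := by decide +kernel
noncomputable def R : Rep := mkRep (nat_lit 19) (nat_lit 524288) nl (by decide +kernel) nl_ok
def defs : List (List ℕ) := []
theorem R_ge : ∀ x, 9 + defs.length ≤ x → R.p x = 1 := fun _ hx => mkRep_ge hx
def J : List ℕ := [0, 0, 2, 0, 1, 1, 2, 2, 0, 0, 0, 1, 1, 0, 1, 2, 2, 2, 0, 0, 0, 0, 0, 0, 0, 0, 0, 0, 2, 2]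
def c : List ℕ := [2, 0, 2, 0, 1, 0, 0, 2, 0, 0, 0, 0, 0, 0, 0, 0, 0, 0, 0, 0, 0, 0, 0, 2, 0, 0, 0, 0, 1, 0]
def E : List (List ℕ × List ℕ) := covE 8 H0.MON.B J
end H0.VON3
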