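import Cfsg.Agent.H0.VON3.D
set_option maxRecDepth 100000
set_option Elab.async false
namespace H0.VON3
open H0 BN 
theorem c0 : pairsW R 0 3 ((E.drop 0).take 6) = true := by decide +kernel
theorem c1 : pairsW R 3 3 ((E.drop 0).take 6) = true := by decide +kernel
theorem c2 : pairsW R 6 3 ((E.drop 0).take 6) = true := by decide +kernel
theorem c3 : pairsW R 9 3 ((E.drop 0).take 6) = true := by decide +kernel
theorem c4 : pairsW R 12 3 ((E.drop 0).take 6) = true := by decide +kernel
theorem c5 : pairsW R 15 3 ((E.drop 0).take 6) = true := by decide +kernel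
theorem c6 : pairsW R 18 1 ((E.drop 0).take 6) = true := by decide +kernel
theorem c7 : pairsW R 0 3 ((E.drop 6).take 4) = true := by decide +kernel
theorem c8 : pairsW R 3 3 ((E.drop 6).take 4) = true := by decide +kernel
theorem c9 : pairsW R 6 3 ((E.drop 6).take 4) = true := by decide +kernel
theorem c10 : pairsW R 9 3 ((E.drop 6).take 4) = true := by decide +kernel
theorem c11 : pairsW R 12 3 ((E.drop 6).take 4) = true := by decide +kernel
theorem c12 : pairsW R 15 3 ((E.drop 6).take 4) = true := by decide +kernel
theorem c13 : pairsW R 18 1 ((E.drop 6).take 4) = true := by decide +kernel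
theorem c14 : pairsW R 0 3 ((E.drop 10).take 3) = true := by decide +kernel
theorem c15 : pairsW R 3 3 ((E.drop 10).take 3) = true := by decide +kernel
theorem c16 : pairsW R 6 3 ((E.drop 10).take 3) = true := by decide +kernel
theorem c17 : pairsW R 9 3 ((E.drop 10).take 3) = true := by decide +kernel
theorem c18 : pairsW R 12 3 ((E.drop 10).take 3) = true := by decide +kernel
theorem c19 : pairsW R 15 3 ((E.drop 10).take 3) = true := by decide +kernel
theorem c20 : pairsW R 18 1 ((E.drop 10).take 3) = true := by decide +kernel
theorem c21 : pairsW R 0 3 ((E.drop 13).take 3) = true := by decide +kernel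
theorem c22 : pairsW R 3 3 ((E.drop 13).take 3) = true := by decide +kernel
theorem c23 : pairsW R 6 3 ((E.drop 13).take 3) = true := by decide +kernel
theorem c24 : pairsW R 9 3 ((E.drop 13).take 3) = true := by decide +kernel
theorem c25 : pairsW R 12 3 ((E.drop 13).take 3) = true := by decide +kernel
theorem c26 : pairsW R 15 3 ((E.drop 13).take 3) = true := by decide +kernel
theorem c27 : pairsW R 18 1 ((E.drop 13).take 3) = true := by decide +kernel
theorem c28 : pairsW R 0 3 ((E.drop 16).take 1) = true := by decide +kernel
theorem c29 : pairsW R 3 3 ((E.drop 16).take 1) = true := by decide +kernel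
theorem c30 : pairsW R 6 3 ((E.drop 16).take 1) = true := by decide +kernel
theorem c31 : pairsW R 9 3 ((E.drop 16).take 1) = true := by decide +kernel
theorem c32 : pairsW R 12 3 ((E.drop 16).take 1) = true := by decide +kernel
theorem c33 : pairsW R 15 3 ((E.drop 16).take 1) = true := by decide +kernel
theorem c34 : pairsW R 18 1 ((E.drop 16).take 1) = true := by decide +kernel
theorem c35 : pairsW R 0 3 ((E.drop 17).take 1) = true := by decide +kernel
theorem c36 : pairsW R 3 3 ((E.drop 17).take 1) = true := by decide +kernel
theorem c37 : pairsW R 6 3 ((E.drop 17).take 1) = true := by decide +kernel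
theorem c38 : pairsW R 9 3 ((E.drop 17).take 1) = true := by decide +kernel
theorem c39 : pairsW R 12 3 ((E.drop 17).take 1) = true := by decide +kernel
theorem c40 : pairsW R 15 3 ((E.drop 17).take 1) = true := by decide +kernel
theorem c41 : pairsW R 18 1 ((E.drop 17).take 1) = true := by decide +kernel
theorem c42 : pairsW R 0 3 ((E.drop 18).take 4) = true := by decide +kernel
theorem c43 : pairsW R 3 3 ((E.drop 18).take 4) = true := by decide +kernel
theorem c44 : pairsW R 6 3 ((E.drop 18).take 4) = true := by decide +kernel
theorem c45 : pairsW R 9 3 ((E.drop 18).take 4) = true := by decide +kernel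
theorem c46 : pairsW R 12 3 ((E.drop 18).take 4) = true := by decide +kernel
theorem c47 : pairsW R 15 3 ((E.drop 18).take 4) = true := by decide +kernel
theorem c48 : pairsW R 18 1 ((E.drop 18).take 4) = true := by decide +kernel
theorem c49 : pairsW R 0 3 ((E.drop 22).take 2) = true := by decide +kernel
theorem c50 : pairsW R 3 3 ((E.drop 22).take 2) = true := by decide +kernel
theorem c51 : pairsW R 6 3 ((E.drop 22).take 2) = true := by decide +kernel
theorem c52 : pairsW R 9 3 ((E.drop 22).take 2) = true := by decide +kernel
theorem c53 : pairsW R 12 3 ((E.drop 22).take 2) = true := by decide +kernel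
theorem c54 : pairsW R 15 3 ((E.drop 22).take 2) = true := by decide +kernel
theorem c55 : pairsW R 18 1 ((E.drop 22).take 2) = true := by decide +kernel
theorem c56 : pairsW R 0 3 ((E.drop 24).take 1) = true := by decide +kernel
theorem c57 : pairsW R 3 3 ((E.drop 24).take 1) = true := by decide +kernel
theorem c58 : pairsW R 6 3 ((E.drop 24).take 1) = true := by decide +kernel
theorem c59 : pairsW R 9 3 ((E.drop 24).take 1) = true := by decide +kernel
theorem c60 : pairsW R 12 3 ((E.drop 24).take 1) = true := by decide +kernel
theorem c61 : pairsW R 15 3 ((E.drop 24).take 1) = true := by decide +kernel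
theorem c62 : pairsW R 18 1 ((E.drop 24).take 1) = true := by decide +kernel
theorem c63 : pairsW R 0 3 ((E.drop 25).take 1) = true := by decide +kernel
theorem c64 : pairsW R 3 3 ((E.drop 25).take 1) = true := by decide +kernel
theorem c65 : pairsW R 6 3 ((E.drop 25).take 1) = true := by decide +kernel
theorem c66 : pairsW R 9 3 ((E.drop 25).take 1) = true := by decide +kernel
theorem c67 : pairsW R 12 3 ((E.drop 25).take 1) = true := by decide +kernel
theorem c68 : pairsW R 15 3 ((E.drop 25).take 1) = true := by decide +kernel
theorem c69 : pairsW R 18 1 ((E.drop 25).take 1) = true := by decide +kernel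
theorem c70 : pairsW R 0 3 ((E.drop 26).take 1) = true := by decide +kernel
theorem c71 : pairsW R 3 3 ((E.drop 26).take 1) = true := by decide +kernel
theorem c72 : pairsW R 6 3 ((E.drop 26).take 1) = true := by decide +kernel
theorem c73 : pairsW R 9 3 ((E.drop 26).take 1) = true := by decide +kernel
theorem c74 : pairsW R 12 3 ((E.drop 26).take 1) = true := by decide +kernel
theorem c75 : pairsW R 15 3 ((E.drop 26).take 1) = true := by decide +kernel
theorem c76 : pairsW R 18 1 ((E.drop 26).take 1) = true := by decide +kernel
theorem c77 : pairsW R 0 2 ((E.drop 27).take 1) = true := by decide +kernel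
theorem c78 : pairsW R 2 2 ((E.drop 27).take 1) = true := by decide +kernel
theorem c79 : pairsW R 4 2 ((E.drop 27).take 1) = true := by decide +kernel
theorem c80 : pairsW R 6 2 ((E.drop 27).take 1) = true := by decide +kernel
theorem c81 : pairsW R 8 2 ((E.drop 27).take 1) = true := by decide +kernel
theorem c82 : pairsW R 10 2 ((E.drop 27).take 1) = true := by decide +kernel
theorem c83 : pairsW R 12 2 ((E.drop 27).take 1) = true := by decide +kernel
theorem c84 : pairsW R 14 2 ((E.drop 27).take 1) = true := by decide +kernel
theorem c85 : pairsW R 16 2 ((E.drop 27).take 1) = true := by decide +kernel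
theorem c86 : pairsW R 18 1 ((E.drop 27).take 1) = true := by decide +kernel
theorem c87 : pairsW R 0 3 ((E.drop 28).take 1) = true := by decide +kernel
theorem c88 : pairsW R 3 3 ((E.drop 28).take 1) = true := by decide +kernel
theorem c89 : pairsW R 6 3 ((E.drop 28).take 1) = true := by decide +kernel
theorem c90 : pairsW R 9 3 ((E.drop 28).take 1) = true := by decide +kernel
theorem c91 : pairsW R 12 3 ((E.drop 28).take 1) = true := by decide +kernel
theorem c92 : pairsW R 15 3 ((E.drop 28).take 1) = true := by decide +kernel
theorem c93 : pairsW R 18 1 ((E.drop 28).take 1) = true := by decide +kernel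
theorem c94 : pairsW R 0 3 ((E.drop 29).take 2) = true := by decide +kernel
theorem c95 : pairsW R 3 3 ((E.drop 29).take 2) = true := by decide +kernel
theorem c96 : pairsW R 6 3 ((E.drop 29).take 2) = true := by decide +kernel
theorem c97 : pairsW R 9 3 ((E.drop 29).take 2) = true := by decide +kernel
theorem c98 : pairsW R 12 3 ((E.drop 29).take 2) = true := by decide +kernel
theorem c99 : pairsW R 15 3 ((E.drop 29).take 2) = true := by decide +kernel
theorem c100 : pairsW R 18 1 ((E.drop 29).take 2) = true := by decide +kernel
theorem c101 : pairsW R 0 3 ((E.drop 31).take 4) = true := by decide +kernel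
theorem c102 : pairsW R 3 3 ((E.drop 31).take 4) = true := by decide +kernel
theorem c103 : pairsW R 6 3 ((E.drop 31).take 4) = true := by decide +kernel
theorem c104 : pairsW R 9 3 ((E.drop 31).take 4) = true := by decide +kernel
theorem c105 : pairsW R 12 3 ((E.drop 31).take 4) = true := by decide +kernel
theorem c106 : pairsW R 15 3 ((E.drop 31).take 4) = true := by decide +kernel
theorem c107 : pairsW R 18 1 ((E.drop 31).take 4) = true := by decide +kernel
theorem c108 : pairsW R 0 3 ((E.drop 35).take 3) = true := by decide +kernel
theorem c109 : pairsW R 3 3 ((E.drop 35).take 3) = true := by decide +kernel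
theorem c110 : pairsW R 6 3 ((E.drop 35).take 3) = true := by decide +kernel
theorem c111 : pairsW R 9 3 ((E.drop 35).take 3) = true := by decide +kernel
theorem c112 : pairsW R 12 3 ((E.drop 35).take 3) = true := by decide +kernel
theorem c113 : pairsW R 15 3 ((E.drop 35).take 3) = true := by decide +kernel
theorem c114 : pairsW R 18 1 ((E.drop 35).take 3) = true := by decide +kernel
theorem c115 : eqW R 0 3 [8, 8, 8] [] = true := by decide +kernel
theorem c116 : eqW R 3 3 [8, 8, 8] [] = true := by decide +kernel
theorem c117 : eqW R 6 3 [8, 8, 8] [] = true := by decide +kernel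
theorem c118 : eqW R 9 3 [8, 8, 8] [] = true := by decide +kernel
theorem c119 : eqW R 12 3 [8, 8, 8] [] = true := by decide +kernel
theorem c120 : eqW R 15 3 [8, 8, 8] [] = true := by decide +kernel
theorem c121 : eqW R 18 1 [8, 8, 8] [] = true := by decide +kernel
theorem c122 : mapsP R [8] [0] [2] = true := by decide +kernel
end H0.VON3
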